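import Groth.Agent.Lib.EtFpqc16.Descent
import Groth.Prelude.Def_BigSite
import Groth.Prelude.Def_EtFppf

/-! The pullback to the big fppf site of a sheaf on the small étale site is the pullback to the big étale site. -/

universe u

open CategoryTheory CategoryTheory.Limits AlgebraicGeometry Opposite

set_option linter.style.haveILetI false
set_option backward.isDefEq.respectTransparency false
set_option backward.isDefEq.respectTransparency.types false

namespace Groth.Agent.FppfPi24

variable (S : Scheme.{u})

/-- the pullback to the big étale site, seen as a sheaf for the fppf topology -/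
noncomputable def piFppf : EtCoh.Ab S ⥤ EtFppf.AbF S where
  obj F := ⟨((BigSite.piEtPull Scheme.etalePrecoverage S).obj F).obj,
    (Presheaf.isSheaf_iff_isSheaf_forget _ _ (forget AddCommGrpCat.{u + 1})).2
      ((isSheaf_iff_isSheaf_of_type _ _).2
        (Presieve.isSheaf_of_le _ (BigSite.J_mono Scheme.fppfPrecoverage_le_fpqcPrecoverage S)
          ((isSheaf_iff_isSheaf_of_type _ _).1
            ((Presheaf.isSheaf_iff_isSheaf_forget _ _ (forget AddCommGrpCat.{u + 1})).1
              (EtFpqc16.isSheaf_fpqc (EtFpqc16.isLocal_pi F))))))⟩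
  map φ := ⟨((BigSite.piEtPull Scheme.etalePrecoverage S).map φ).hom⟩
  map_id F := by apply ObjectProperty.hom_ext; exact congrArg (fun t => t.hom) ((BigSite.piEtPull Scheme.etalePrecoverage S).map_id F)
  map_comp φ ψ := by apply ObjectProperty.hom_ext; exact congrArg (fun t => t.hom) ((BigSite.piEtPull Scheme.etalePrecoverage S).map_comp φ ψ)

/-- an fppf sheaf seen as a sheaf on the big étale site -/
noncomputable def toEt : EtFppf.AbF S ⥤ BigSite.Ab Scheme.etalePrecoverage S where
  obj G := ⟨G.obj, (Presheaf.isSheaf_iff_isSheaf_forget _ _ (forget AddCommGrpCat.{u + 1})).2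
      ((isSheaf_iff_isSheaf_of_type _ _).2
        (Presieve.isSheaf_of_le _ (BigSite.J_mono BigSite.etalePrecoverage_le_fppfPrecoverage S)
          ((isSheaf_iff_isSheaf_of_type _ _).1
            ((Presheaf.isSheaf_iff_isSheaf_forget _ _ (forget AddCommGrpCat.{u + 1})).1 G.property))))⟩
  map φ := ⟨φ.hom⟩

noncomputable def toEtFullyFaithful : (toEt S).FullyFaithful where
  preimage φ := ⟨φ.hom⟩

variable [EtFppf.ACont S]

/-- the two restrictions to the small étale site agree -/
noncomputable def resIso : toEt S ⋙ BigSite.resEt Scheme.etalePrecoverage S ≅ EtFppf.aPush S :=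
  NatIso.ofComponents (fun _ => Iso.refl _) fun φ => by
    simp only [Iso.refl_hom, Category.comp_id, Category.id_comp]
    rfl

/-- it is left adjoint to restriction -/
noncomputable def piFppfAdj : piFppf S ⊣ EtFppf.aPush S :=
  (BigSite.piEtAdj Scheme.etalePrecoverage S).restrictFullyFaithful (Functor.FullyFaithful.id _) (toEtFullyFaithful S)
    (NatIso.ofComponents (fun _ => Iso.refl _) fun φ => by
      simp only [Iso.refl_hom, Category.comp_id, Category.id_comp]; rfl)
    (resIso S ≪≫ (EtFppf.aPush S).rightUnitor.symm)

/-- the pullback to the big fppf site -/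
noncomputable def aPullIso : EtFppf.aPull S ≅ piFppf S :=
  Adjunction.leftAdjointUniq (EtFppf.aAdj S) (piFppfAdj S)

end Groth.Agent.FppfPi24
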